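import Mathlib.Data.Nat.Bitwise

/-!
Generated data: nine matrices of size 78 over the field with thirteen elements, rows as runs (skip, entry).
-/

set_option autoImplicit false
set_option maxRecDepth 100000

namespace CfsgLib.FiRep

/-- The runs of a generator. -/
def gen0 : List (List (ℕ × ℕ)) := [
  [(0, 1)],
  [(1, 1)],
  [(2, 1)],
  [(3, 1)],
  [(4, 1)],
  [(5, 1)],
  [(6, 1)],
  [(7, 1)],
  [(8, 1)],
  [(9, 1)],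
  [(10, 1)],
  [(11, 1)],
  [(12, 1)],
  [(13, 1)],
  [(14, 1)],
  [(15, 1)],
  [(16, 1)],
  [(17, 1)],
  [(18, 1)],
  [(19, 1)],
  [(20, 1)],
  [(21, 1)],
  [(22, 12)],
  [(23, 12)],
  [(24, 12)],
  [(25, 12)],
  [(26, 12)],
  [(27, 12)],
  [(28, 12)],
  [(29, 12)],
  [(30, 12)],
  [(31, 12)],
  [(32, 12)],
  [(33, 12)],
  [(34, 12)],
  [(35, 12)],
  [(36, 12)],
  [(37, 12)],
  [(38, 12)],
  [(39, 12)],
  [(40, 12)],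
  [(41, 12)],
  [(42, 12)],
  [(43, 12)],
  [(44, 12)],
  [(45, 12)],
  [(46, 12)],
  [(47, 12)],
  [(48, 12)],
  [(49, 12)],
  [(50, 12)],
  [(51, 12)],
  [(52, 12)],
  [(53, 12)],
  [(54, 12)],
  [(55, 12)],
  [(56, 12)],
  [(57, 12)],
  [(58, 12)],
  [(59, 12)],
  [(60, 12)],
  [(61, 12)],
  [(62, 12)],
  [(63, 12)],
  [(64, 12)],
  [(65, 12)],
  [(66, 12)],
  [(67, 12)],
  [(68, 12)],
  [(69, 12)],
  [(70, 12)],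
  [(71, 12)],
  [(72, 12)],
  [(73, 12)],
  [(74, 12)],
  [(75, 12)],
  [(76, 12)],
  [(77, 12)]]

/-- The runs of a generator. -/
def gen1 : List (List (ℕ × ℕ)) := [
  [(0, 6), (21, 9), (0, 8), (1, 9), (0, 9), (0, 9), (2, 9), (1, 4), (0, 4), (0, 9), (2, 9), (2, 9), (3, 11), (0, 11), (4, 2), (0, 2), (0, 11), (0, 2), (0, 11), (0, 11), (0, 11), (0, 2), (4, 2), (0, 2), (0, 2), (0, 2), (1, 2), (0, 11), (3, 2), (0, 11), (1, 2), (0, 11)],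
  [(1, 6), (20, 8), (0, 9), (0, 4), (0, 4), (0, 4), (1, 9), (1, 4), (1, 9), (1, 9), (4, 9), (1, 4), (3, 2), (1, 2), (0, 11), (0, 11), (2, 2), (0, 11), (0, 2), (3, 11), (0, 11), (0, 11), (2, 11), (0, 11), (1, 2), (1, 2), (0, 11), (1, 2), (0, 11), (0, 2), (1, 11), (1, 2)],
  [(0, 7), (0, 2), (0, 2), (0, 6), (0, 2), (0, 7), (0, 2), (0, 4), (15, 9), (0, 9), (1, 4), (1, 4), (0, 9), (2, 9), (1, 4), (0, 4), (0, 9), (0, 4), (0, 4), (1, 4), (2, 1), (0, 1), (0, 1), (0, 1), (0, 1), (0, 1), (0, 12), (0, 12), (0, 12), (0, 1), (0, 12), (0, 1), (0, 1), (0, 3), (0, 10), (0, 1), (0, 1), (0, 12), (0, 12), (0, 12), (0, 12), (0, 12), (0, 12), (0, 12), (0, 10), (0, 12), (0, 1), (0, 1), (0, 12), (0, 10), (0, 12), (0, 1), (0, 1), (0, 12), (0, 10)],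
  [(3, 6), (18, 4), (0, 9), (1, 4), (0, 8), (1, 4), (1, 4), (0, 9), (0, 9), (0, 4), (1, 4), (2, 4), (4, 2), (2, 2), (0, 2), (1, 11), (0, 11), (2, 11), (2, 2), (0, 11), (0, 11), (1, 11), (0, 11), (0, 11), (0, 11), (0, 11), (0, 11), (1, 11), (1, 11), (1, 2), (0, 11), (1, 11)],
  [(4, 6), (17, 4), (0, 9), (1, 8), (0, 4), (2, 4), (0, 4), (1, 9), (2, 9), (1, 9), (1, 4), (2, 9), (0, 2), (0, 2), (3, 11), (1, 11), (3, 2), (0, 2), (2, 11), (1, 11), (0, 11), (2, 11), (0, 11), (0, 2), (0, 11), (0, 2), (1, 11), (0, 2), (2, 11), (0, 11), (0, 2), (0, 2)],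
  [(5, 6), (16, 9), (0, 4), (0, 4), (0, 9), (0, 9), (0, 4), (1, 4), (0, 9), (0, 9), (0, 8), (3, 4), (6, 11), (0, 11), (0, 11), (0, 11), (0, 11), (0, 2), (0, 2), (1, 2), (0, 11), (1, 11), (0, 11), (0, 11), (0, 2), (1, 2), (0, 2), (0, 2), (4, 11), (0, 2), (2, 2), (1, 2)],
  [(6, 6), (15, 4), (0, 9), (1, 4), (0, 4), (3, 8), (1, 9), (3, 4), (1, 9), (1, 9), (0, 9), (0, 4), (2, 2), (0, 2), (2, 11), (1, 11), (1, 11), (1, 2), (1, 11), (1, 11), (1, 11), (0, 11), (2, 11), (0, 2), (2, 11), (0, 11), (0, 2), (1, 2), (0, 11), (0, 11), (0, 2), (0, 2)],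
  [(0, 8), (0, 6), (0, 1), (0, 5), (0, 6), (0, 8), (0, 6), (0, 5), (35, 7), (0, 7), (0, 6), (0, 7), (0, 7), (0, 6), (0, 7), (0, 6), (0, 6), (0, 7), (0, 7), (0, 6), (0, 6), (0, 7), (0, 7), (0, 6), (0, 6), (0, 7), (0, 7), (0, 6), (0, 6), (0, 7), (0, 7), (0, 6), (0, 7), (0, 7), (0, 6), (0, 6), (0, 6), (0, 7), (0, 7), (0, 6), (0, 7), (0, 7), (0, 7)],
  [(0, 1), (0, 4), (0, 5), (0, 12), (0, 4), (0, 1), (0, 4), (0, 8), (0, 6), (34, 11), (0, 6), (0, 2), (0, 11), (0, 11), (0, 2), (0, 6), (0, 2), (0, 7), (0, 6), (0, 6), (0, 2), (0, 2), (0, 6), (0, 11), (0, 7), (0, 2), (0, 6), (0, 6), (0, 2), (0, 2), (0, 6), (0, 6), (0, 7), (0, 11), (0, 11), (0, 7), (0, 2), (0, 5), (0, 11), (0, 11), (0, 7), (0, 6), (0, 11), (0, 6)],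
  [(0, 1), (0, 4), (0, 5), (0, 12), (0, 4), (0, 1), (0, 4), (0, 8), (1, 6), (33, 11), (0, 11), (0, 2), (0, 11), (0, 6), (0, 7), (0, 11), (0, 7), (0, 2), (0, 6), (0, 6), (0, 2), (0, 7), (0, 11), (0, 6), (0, 2), (0, 7), (0, 11), (0, 6), (0, 7), (0, 2), (0, 6), (0, 8), (0, 2), (0, 6), (0, 11), (0, 2), (0, 2), (0, 7), (0, 11), (0, 11), (0, 7), (0, 6), (0, 6), (0, 11)],
  [(0, 12), (0, 9), (0, 8), (0, 1), (0, 9), (0, 12), (0, 9), (0, 5), (2, 6), (32, 7), (0, 2), (0, 6), (0, 7), (0, 7), (0, 11), (0, 2), (0, 11), (0, 11), (0, 2), (0, 7), (0, 6), (0, 6), (0, 7), (0, 2), (0, 11), (0, 11), (0, 2), (0, 2), (0, 11), (0, 11), (0, 7), (0, 7), (0, 6), (0, 2), (0, 7), (0, 11), (0, 11), (0, 6), (0, 2), (0, 7), (0, 11), (0, 5), (0, 7), (0, 7)],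
  [(0, 1), (0, 4), (0, 5), (0, 12), (0, 4), (0, 1), (0, 4), (0, 8), (3, 6), (31, 11), (0, 11), (0, 7), (0, 11), (0, 11), (0, 7), (0, 6), (0, 7), (0, 2), (0, 11), (0, 11), (0, 7), (0, 7), (0, 6), (0, 11), (0, 2), (0, 7), (0, 6), (0, 6), (0, 7), (0, 7), (0, 11), (0, 11), (0, 5), (0, 11), (0, 11), (0, 2), (0, 7), (0, 7), (0, 11), (0, 11), (0, 2), (0, 6), (0, 11), (0, 6)],
  [(0, 1), (0, 4), (0, 5), (0, 12), (0, 4), (0, 1), (0, 4), (0, 8), (4, 6), (30, 6), (0, 6), (0, 7), (0, 11), (0, 11), (0, 7), (0, 6), (0, 2), (0, 2), (0, 11), (0, 8), (0, 2), (0, 2), (0, 11), (0, 6), (0, 2), (0, 2), (0, 11), (0, 11), (0, 7), (0, 7), (0, 6), (0, 6), (0, 2), (0, 11), (0, 11), (0, 7), (0, 7), (0, 7), (0, 6), (0, 6), (0, 2), (0, 6), (0, 11), (0, 11)],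
  [(0, 12), (0, 9), (0, 8), (0, 1), (0, 9), (0, 12), (0, 9), (0, 5), (5, 6), (29, 2), (0, 7), (0, 6), (0, 2), (0, 7), (0, 11), (0, 2), (0, 11), (0, 6), (0, 2), (0, 2), (0, 6), (0, 8), (0, 2), (0, 7), (0, 6), (0, 11), (0, 2), (0, 7), (0, 11), (0, 6), (0, 2), (0, 7), (0, 6), (0, 7), (0, 2), (0, 6), (0, 6), (0, 11), (0, 2), (0, 2), (0, 11), (0, 7), (0, 7), (0, 2)],
  [(0, 12), (0, 9), (0, 8), (0, 1), (0, 9), (0, 12), (0, 9), (0, 5), (6, 6), (28, 7), (0, 7), (0, 11), (0, 7), (0, 7), (0, 11), (0, 2), (0, 6), (0, 6), (0, 7), (0, 2), (0, 11), (0, 11), (0, 5), (0, 7), (0, 11), (0, 11), (0, 2), (0, 2), (0, 6), (0, 6), (0, 2), (0, 2), (0, 6), (0, 7), (0, 2), (0, 11), (0, 11), (0, 6), (0, 7), (0, 2), (0, 11), (0, 7), (0, 2), (0, 7)],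
  [(0, 1), (0, 4), (0, 5), (0, 12), (0, 4), (0, 1), (0, 4), (0, 8), (7, 6), (27, 6), (0, 11), (0, 5), (0, 11), (0, 11), (0, 2), (0, 6), (0, 7), (0, 7), (0, 6), (0, 6), (0, 7), (0, 7), (0, 11), (0, 6), (0, 7), (0, 7), (0, 11), (0, 11), (0, 2), (0, 2), (0, 11), (0, 11), (0, 7), (0, 11), (0, 11), (0, 2), (0, 2), (0, 2), (0, 6), (0, 6), (0, 7), (0, 6), (0, 11), (0, 11)],
  [(0, 12), (0, 9), (0, 8), (0, 1), (0, 9), (0, 12), (0, 9), (0, 5), (8, 6), (26, 7), (0, 2), (0, 11), (0, 7), (0, 5), (0, 6), (0, 7), (0, 11), (0, 11), (0, 7), (0, 2), (0, 11), (0, 6), (0, 7), (0, 2), (0, 6), (0, 6), (0, 7), (0, 2), (0, 11), (0, 6), (0, 2), (0, 7), (0, 11), (0, 2), (0, 2), (0, 6), (0, 11), (0, 11), (0, 7), (0, 2), (0, 11), (0, 7), (0, 7), (0, 2)],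
  [(0, 12), (0, 9), (0, 8), (0, 1), (0, 9), (0, 12), (0, 9), (0, 5), (9, 6), (25, 7), (0, 2), (0, 11), (0, 7), (0, 2), (0, 11), (0, 7), (0, 11), (0, 11), (0, 7), (0, 2), (0, 11), (0, 6), (0, 2), (0, 7), (0, 11), (0, 11), (0, 7), (0, 5), (0, 11), (0, 6), (0, 2), (0, 7), (0, 6), (0, 7), (0, 7), (0, 11), (0, 6), (0, 6), (0, 2), (0, 7), (0, 6), (0, 2), (0, 2), (0, 2)],
  [(0, 12), (0, 9), (0, 8), (0, 1), (0, 9), (0, 12), (0, 9), (0, 5), (10, 6), (24, 5), (0, 7), (0, 6), (0, 7), (0, 7), (0, 6), (0, 2), (0, 6), (0, 11), (0, 2), (0, 7), (0, 11), (0, 11), (0, 7), (0, 2), (0, 6), (0, 11), (0, 7), (0, 7), (0, 11), (0, 11), (0, 2), (0, 2), (0, 11), (0, 7), (0, 2), (0, 11), (0, 6), (0, 11), (0, 2), (0, 7), (0, 6), (0, 7), (0, 2), (0, 2)],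
  [(0, 12), (0, 9), (0, 8), (0, 1), (0, 9), (0, 12), (0, 9), (0, 5), (11, 6), (23, 2), (0, 7), (0, 6), (0, 7), (0, 7), (0, 11), (0, 5), (0, 6), (0, 11), (0, 2), (0, 7), (0, 11), (0, 11), (0, 2), (0, 7), (0, 11), (0, 6), (0, 7), (0, 7), (0, 11), (0, 11), (0, 2), (0, 2), (0, 6), (0, 2), (0, 7), (0, 6), (0, 11), (0, 6), (0, 7), (0, 2), (0, 11), (0, 2), (0, 7), (0, 2)],
  [(0, 1), (0, 4), (0, 5), (0, 12), (0, 4), (0, 1), (0, 4), (0, 8), (12, 6), (22, 11), (0, 6), (0, 7), (0, 11), (0, 6), (0, 7), (0, 11), (0, 2), (0, 7), (0, 8), (0, 11), (0, 7), (0, 2), (0, 6), (0, 11), (0, 2), (0, 7), (0, 11), (0, 6), (0, 2), (0, 7), (0, 11), (0, 6), (0, 2), (0, 11), (0, 6), (0, 2), (0, 2), (0, 7), (0, 6), (0, 6), (0, 7), (0, 11), (0, 11), (0, 11)],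
  [(0, 1), (0, 4), (0, 5), (0, 12), (0, 4), (0, 1), (0, 4), (0, 8), (13, 6), (21, 6), (0, 8), (0, 2), (0, 11), (0, 11), (0, 7), (0, 6), (0, 7), (0, 7), (0, 6), (0, 6), (0, 7), (0, 7), (0, 6), (0, 11), (0, 2), (0, 2), (0, 11), (0, 11), (0, 2), (0, 2), (0, 11), (0, 11), (0, 2), (0, 6), (0, 6), (0, 7), (0, 7), (0, 7), (0, 11), (0, 11), (0, 2), (0, 11), (0, 6), (0, 11)],
  [(1, 6), (20, 4), (0, 4), (0, 9), (0, 9), (0, 9), (1, 4), (1, 9), (1, 4), (1, 4), (4, 4), (1, 9), (3, 11), (1, 11), (0, 2), (0, 2), (2, 11), (0, 2), (0, 11), (3, 2), (0, 2), (0, 2), (2, 2), (0, 2), (1, 11), (1, 11), (0, 2), (1, 11), (0, 2), (0, 11), (1, 2), (1, 11)],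
  [(0, 6), (21, 4), (0, 4), (1, 4), (0, 4), (0, 4), (2, 4), (1, 9), (0, 9), (0, 4), (2, 4), (2, 4), (3, 2), (0, 2), (4, 11), (0, 11), (0, 2), (0, 11), (0, 2), (0, 2), (0, 2), (0, 11), (4, 11), (0, 11), (0, 11), (0, 11), (1, 11), (0, 2), (3, 11), (0, 2), (1, 11), (0, 2)],
  [(1, 6), (3, 6), (16, 9), (1, 4), (2, 9), (0, 4), (0, 9), (1, 4), (0, 9), (1, 4), (1, 9), (2, 4), (1, 9), (1, 2), (0, 2), (1, 2), (4, 11), (1, 2), (1, 2), (0, 2), (0, 11), (0, 2), (2, 11), (1, 2), (0, 2), (2, 11), (0, 11), (0, 2), (0, 11), (0, 11), (1, 11), (1, 2), (1, 11)],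
  [(4, 6), (17, 9), (0, 4), (1, 4), (0, 9), (2, 9), (0, 9), (1, 4), (2, 4), (1, 4), (1, 9), (2, 4), (0, 11), (0, 11), (3, 2), (1, 2), (3, 11), (0, 11), (2, 2), (1, 2), (0, 2), (2, 2), (0, 2), (0, 11), (0, 2), (0, 11), (1, 2), (0, 11), (2, 2), (0, 2), (0, 11), (0, 11)],
  [(3, 6), (18, 9), (0, 4), (1, 9), (0, 4), (1, 9), (1, 9), (0, 4), (0, 4), (0, 9), (1, 9), (2, 9), (4, 11), (2, 11), (0, 11), (1, 2), (0, 2), (2, 2), (2, 11), (0, 2), (0, 2), (1, 2), (0, 2), (0, 2), (0, 2), (0, 2), (0, 2), (1, 2), (1, 2), (1, 11), (0, 2), (1, 2)],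
  [(0, 7), (4, 6), (17, 4), (0, 9), (2, 4), (1, 9), (1, 4), (0, 9), (0, 4), (0, 9), (1, 9), (0, 9), (2, 9), (2, 2), (2, 2), (0, 2), (0, 11), (0, 11), (0, 2), (2, 2), (5, 11), (0, 11), (0, 11), (0, 2), (0, 2), (0, 2), (0, 2), (0, 2), (1, 11), (1, 11), (2, 11), (1, 2), (0, 11)],
  [(1, 7), (1, 6), (18, 4), (1, 4), (1, 9), (1, 4), (2, 4), (1, 9), (0, 9), (0, 9), (2, 9), (0, 9), (1, 4), (1, 11), (1, 2), (0, 11), (1, 11), (1, 2), (1, 2), (1, 2), (1, 11), (0, 2), (1, 11), (1, 2), (0, 2), (2, 2), (0, 2), (0, 2), (0, 2), (4, 2), (0, 2), (0, 11), (1, 2)],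
  [(4, 6), (0, 6), (18, 9), (0, 9), (1, 9), (1, 4), (1, 4), (0, 9), (2, 4), (0, 9), (0, 4), (1, 9), (2, 4), (2, 2), (0, 2), (0, 2), (1, 11), (0, 2), (0, 11), (0, 2), (3, 2), (0, 11), (0, 2), (0, 11), (4, 2), (0, 2), (2, 11), (2, 11), (0, 11), (1, 2), (0, 2), (0, 11), (0, 11)],
  [(6, 6), (15, 9), (0, 4), (1, 9), (0, 9), (3, 4), (1, 4), (3, 9), (1, 4), (1, 4), (0, 4), (0, 9), (2, 11), (0, 11), (2, 2), (1, 2), (1, 2), (1, 11), (1, 2), (1, 2), (1, 2), (0, 2), (2, 2), (0, 11), (2, 2), (0, 2), (0, 11), (1, 11), (0, 2), (0, 2), (0, 11), (0, 11)],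
  [(3, 7), (1, 7), (18, 4), (1, 4), (0, 4), (0, 4), (0, 4), (1, 4), (0, 4), (0, 4), (1, 4), (0, 4), (1, 4), (5, 11), (0, 11), (2, 2), (1, 11), (0, 2), (0, 11), (0, 11), (0, 11), (0, 11), (2, 11), (0, 2), (2, 11), (0, 11), (0, 11), (0, 11), (0, 11), (2, 11), (0, 2), (0, 2), (2, 11)],
  [(5, 6), (16, 4), (0, 9), (0, 9), (0, 4), (0, 4), (0, 9), (1, 9), (0, 4), (0, 4), (0, 4), (3, 9), (6, 2), (0, 2), (0, 2), (0, 2), (0, 2), (0, 11), (0, 11), (1, 11), (0, 2), (1, 2), (0, 2), (0, 2), (0, 11), (1, 11), (0, 11), (0, 11), (4, 2), (0, 11), (2, 11), (1, 11)],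
  [(0, 6), (2, 6), (19, 9), (2, 9), (0, 4), (0, 9), (2, 4), (1, 4), (0, 4), (0, 9), (1, 4), (0, 9), (1, 4), (2, 11), (0, 2), (0, 2), (0, 11), (0, 11), (1, 2), (1, 11), (0, 2), (1, 2), (0, 2), (2, 2), (1, 2), (0, 2), (6, 2), (0, 2), (1, 11), (1, 2), (0, 2), (0, 11), (0, 2)],
  [(0, 7), (0, 7), (20, 4), (0, 4), (0, 4), (2, 9), (0, 9), (4, 4), (0, 4), (2, 9), (1, 9), (0, 9), (0, 4), (2, 11), (2, 2), (0, 11), (0, 11), (0, 2), (0, 2), (3, 11), (0, 11), (0, 2), (0, 11), (0, 11), (0, 11), (1, 2), (2, 2), (0, 2), (0, 2), (1, 11), (1, 2), (4, 11), (0, 2)],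
  [(3, 6), (0, 7), (20, 4), (0, 9), (1, 9), (0, 4), (1, 4), (1, 9), (1, 4), (1, 9), (0, 9), (0, 4), (2, 9), (1, 2), (1, 11), (0, 11), (0, 11), (0, 2), (3, 2), (0, 2), (0, 2), (0, 11), (0, 2), (4, 2), (0, 2), (2, 2), (1, 2), (0, 2), (0, 11), (1, 2), (2, 11), (0, 2), (0, 2)],
  [(5, 6), (0, 6), (17, 9), (2, 9), (1, 9), (0, 9), (0, 4), (0, 9), (3, 4), (1, 4), (1, 4), (0, 4), (0, 9), (0, 2), (0, 2), (2, 2), (0, 11), (3, 2), (0, 2), (0, 2), (1, 2), (3, 11), (1, 2), (2, 2), (1, 11), (1, 2), (1, 11), (0, 11), (0, 11), (0, 2), (0, 2), (0, 11), (0, 11)],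
  [(0, 7), (3, 7), (18, 4), (1, 4), (1, 9), (1, 4), (3, 4), (0, 9), (0, 9), (1, 4), (1, 4), (0, 9), (1, 9), (0, 2), (1, 11), (2, 11), (2, 2), (0, 11), (0, 2), (2, 11), (0, 2), (0, 11), (1, 11), (0, 11), (0, 2), (0, 2), (2, 2), (3, 11), (0, 2), (0, 2), (0, 11), (0, 11), (2, 2)],
  [(3, 6), (2, 7), (19, 9), (1, 9), (1, 4), (0, 4), (1, 9), (1, 9), (0, 4), (1, 4), (1, 9), (0, 9), (0, 4), (0, 11), (1, 2), (1, 11), (2, 2), (0, 11), (3, 2), (0, 11), (1, 2), (0, 11), (0, 2), (2, 2), (0, 2), (1, 2), (0, 2), (2, 11), (1, 2), (0, 2), (1, 11), (0, 2), (0, 2)],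
  [(1, 7), (2, 6), (17, 4), (1, 4), (0, 9), (2, 9), (0, 9), (4, 9), (0, 4), (1, 4), (1, 4), (1, 4), (0, 4), (0, 11), (0, 11), (0, 2), (1, 2), (1, 11), (0, 2), (1, 2), (0, 11), (1, 11), (3, 11), (1, 2), (1, 11), (1, 2), (1, 2), (1, 11), (0, 2), (1, 11), (0, 2), (0, 2), (1, 11)],
  [(0, 7), (5, 7), (16, 4), (3, 9), (2, 4), (2, 4), (0, 9), (1, 4), (0, 9), (0, 9), (1, 4), (0, 9), (0, 4), (1, 11), (1, 2), (2, 11), (0, 2), (1, 11), (1, 11), (1, 11), (2, 11), (1, 11), (1, 2), (0, 2), (1, 2), (0, 2), (0, 11), (0, 11), (0, 11), (0, 2), (0, 2), (1, 11), (2, 2)],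
  [(1, 6), (4, 7), (15, 9), (1, 9), (3, 4), (1, 4), (3, 4), (1, 4), (1, 9), (0, 4), (0, 9), (0, 4), (0, 4), (3, 2), (0, 11), (0, 2), (2, 11), (0, 11), (1, 11), (0, 2), (1, 11), (0, 2), (1, 2), (0, 11), (0, 11), (0, 2), (0, 2), (0, 11), (2, 11), (1, 11), (1, 2), (1, 11), (1, 2)],
  [(4, 7), (1, 6), (18, 4), (3, 4), (0, 9), (4, 9), (0, 9), (0, 9), (0, 4), (0, 4), (0, 4), (0, 4), (0, 4), (0, 2), (0, 2), (0, 11), (0, 11), (1, 11), (0, 2), (0, 11), (0, 2), (1, 2), (0, 2), (2, 2), (0, 11), (0, 2), (0, 11), (1, 2), (1, 11), (2, 11), (0, 2), (0, 2), (3, 11)],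
  [(0, 10), (1, 10), (1, 10), (2, 9), (10, 12), (5, 11), (0, 2), (0, 2), (0, 11), (0, 2), (3, 11), (0, 2), (2, 11), (0, 11), (0, 2), (0, 2), (2, 11), (0, 6), (0, 2), (0, 11), (0, 2), (0, 2), (0, 11), (0, 11), (0, 11), (0, 2), (0, 11), (0, 2), (0, 2), (0, 2), (0, 2), (0, 11), (0, 11), (0, 2), (2, 2), (0, 2), (0, 11), (0, 11), (0, 2), (1, 11), (0, 2), (0, 11), (0, 2), (0, 11), (1, 11), (0, 2), (0, 11), (0, 11)],
  [(2, 10), (0, 3), (0, 10), (2, 9), (13, 1), (1, 11), (0, 11), (0, 2), (5, 2), (0, 11), (0, 11), (0, 2), (0, 11), (0, 11), (2, 2), (0, 2), (1, 11), (0, 2), (0, 6), (0, 2), (0, 11), (0, 11), (0, 11), (0, 2), (0, 11), (0, 11), (0, 2), (0, 2), (2, 2), (0, 11), (0, 2), (0, 2), (0, 11), (0, 11), (0, 2), (0, 2), (0, 11), (0, 11), (0, 2), (1, 2), (1, 11), (0, 11), (0, 11), (0, 11), (0, 2), (0, 11), (0, 2), (0, 11)],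
  [(0, 3), (1, 3), (1, 3), (0, 3), (1, 4), (7, 12), (6, 2), (0, 11), (4, 11), (0, 11), (0, 2), (0, 2), (0, 11), (0, 11), (3, 2), (0, 11), (0, 11), (2, 2), (0, 11), (0, 2), (0, 6), (0, 2), (0, 2), (0, 11), (0, 11), (0, 2), (2, 11), (0, 2), (0, 2), (0, 2), (0, 11), (0, 2), (1, 2), (0, 2), (0, 11), (0, 11), (0, 2), (0, 2), (0, 2), (0, 2), (0, 2), (0, 11), (0, 11), (0, 11), (0, 11), (1, 2), (0, 11), (0, 2), (0, 2)],
  [(0, 10), (1, 10), (3, 10), (0, 8), (2, 1), (3, 1), (1, 1), (1, 1), (5, 11), (1, 2), (0, 11), (0, 2), (0, 11), (0, 2), (1, 11), (0, 2), (1, 2), (4, 11), (0, 11), (0, 2), (0, 2), (0, 11), (0, 2), (0, 6), (0, 2), (0, 2), (1, 2), (0, 11), (0, 11), (0, 11), (0, 11), (0, 2), (0, 2), (1, 2), (0, 11), (0, 11), (1, 11), (0, 2), (0, 2), (0, 11), (0, 2), (0, 11), (1, 11), (0, 11), (0, 2), (0, 11), (0, 11), (0, 11), (0, 2), (0,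 11), (0, 11)],
  [(0, 10), (0, 10), (0, 10), (4, 9), (8, 12), (5, 2), (3, 2), (0, 11), (1, 11), (2, 11), (0, 2), (0, 11), (0, 2), (0, 11), (1, 2), (0, 11), (1, 2), (1, 2), (0, 11), (0, 2), (0, 2), (0, 6), (0, 11), (1, 2), (0, 2), (0, 2), (0, 11), (0, 2), (0, 11), (0, 2), (0, 11), (0, 11), (0, 11), (1, 11), (0, 2), (0, 11), (0, 11), (0, 2), (0, 2), (0, 11), (0, 11), (0, 11), (0, 2), (0, 2), (1, 11), (0, 2), (0, 2), (1, 11)],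
  [(0, 3), (0, 3), (0, 3), (0, 10), (0, 3), (2, 6), (0, 1), (0, 1), (0, 12), (1, 1), (1, 12), (1, 12), (1, 12), (1, 1), (0, 1), (0, 11), (2, 11), (1, 2), (0, 2), (2, 11), (0, 2), (1, 2), (0, 2), (0, 2), (0, 2), (3, 11), (0, 2), (0, 11), (0, 11), (0, 11), (0, 2), (0, 11), (0, 6), (0, 2), (0, 11), (0, 11), (0, 11), (0, 11), (1, 11), (0, 2), (0, 11), (0, 2), (0, 2), (1, 2), (1, 11), (0, 2), (0, 11), (1, 2), (0, 11), (0, 11), (0, 2), (0, 11), (0, 2), (0, 2), (0, 11), (0, 2), (0, 2), (0, 11)],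
  [(2, 10), (0, 3), (0, 10), (0, 10), (1, 9), (11, 12), (2, 11), (3, 11), (0, 2), (1, 2), (0, 11), (1, 2), (0, 11), (0, 2), (0, 11), (3, 2), (0, 2), (1, 11), (0, 11), (0, 2), (0, 11), (2, 2), (0, 6), (0, 11), (0, 2), (0, 11), (0, 2), (0, 2), (0, 2), (0, 11), (0, 2), (0, 2), (1, 2), (0, 2), (0, 2), (0, 2), (0, 11), (0, 11), (0, 11), (0, 11), (0, 2), (1, 2), (0, 11), (0, 2), (0, 11), (0, 2), (0, 11), (0, 2), (0, 11)],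
  [(2, 3), (1, 3), (0, 3), (1, 6), (0, 1), (1, 12), (0, 1), (0, 1), (1, 12), (0, 1), (2, 12), (0, 12), (1, 1), (1, 2), (1, 11), (0, 11), (0, 11), (0, 11), (0, 11), (1, 2), (2, 11), (3, 11), (0, 11), (0, 11), (1, 2), (0, 11), (0, 11), (0, 2), (0, 2), (0, 2), (0, 11), (0, 11), (0, 6), (0, 11), (0, 2), (0, 2), (0, 11), (0, 11), (0, 11), (0, 2), (0, 2), (1, 2), (0, 2), (0, 2), (0, 2), (2, 2), (1, 11), (0, 11), (0, 11), (0, 11), (0, 2), (0, 2), (0, 2), (0, 2), (0, 11), (0, 2)],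
  [(2, 3), (0, 10), (2, 3), (0, 5), (0, 1), (5, 12), (5, 1), (0, 1), (1, 2), (0, 2), (4, 2), (0, 11), (0, 11), (0, 2), (0, 2), (0, 11), (2, 11), (0, 2), (2, 2), (0, 11), (0, 2), (0, 11), (1, 11), (0, 2), (0, 11), (0, 2), (0, 11), (0, 6), (0, 11), (0, 2), (0, 11), (1, 11), (2, 2), (0, 11), (0, 2), (0, 2), (0, 11), (0, 11), (0, 2), (0, 11), (0, 2), (0, 2), (0, 11), (0, 2), (0, 2), (0, 2), (0, 11), (0, 11), (0, 2), (0, 11), (0, 2)],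
  [(1, 10), (0, 10), (0, 3), (3, 9), (12, 1), (1, 2), (0, 11), (4, 11), (0, 11), (1, 2), (0, 11), (0, 11), (2, 11), (0, 2), (1, 11), (0, 2), (0, 2), (1, 11), (0, 2), (1, 11), (0, 2), (0, 11), (0, 11), (0, 2), (0, 11), (0, 6), (0, 11), (1, 2), (0, 2), (0, 11), (0, 2), (0, 11), (0, 11), (0, 2), (0, 2), (0, 11), (0, 11), (0, 2), (0, 2), (0, 11), (0, 2), (0, 2), (0, 2), (0, 11), (1, 2), (1, 11), (0, 11), (0, 11)],
  [(0, 10), (1, 10), (0, 3), (0, 10), (2, 9), (4, 1), (9, 11), (0, 2), (0, 11), (1, 11), (0, 11), (2, 11), (0, 2), (3, 11), (0, 11), (0, 11), (1, 2), (2, 11), (0, 2), (0, 2), (0, 11), (0, 11), (0, 11), (0, 11), (0, 2), (0, 2), (0, 2), (0, 11), (0, 6), (0, 2), (0, 2), (0, 11), (0, 2), (0, 2), (0, 2), (0, 11), (0, 11), (2, 2), (0, 2), (0, 2), (0, 11), (0, 11), (1, 11), (0, 11), (0, 2), (1, 2), (0, 2), (0, 11), (0, 11)],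
  [(0, 3), (1, 3), (2, 3), (0, 3), (0, 5), (2, 12), (0, 1), (1, 12), (1, 1), (6, 2), (0, 11), (1, 2), (2, 11), (2, 2), (0, 11), (0, 11), (1, 11), (0, 11), (3, 2), (0, 2), (0, 11), (0, 2), (1, 2), (0, 11), (0, 2), (1, 2), (0, 11), (0, 11), (1, 2), (0, 6), (0, 2), (0, 2), (0, 2), (0, 11), (0, 11), (0, 11), (0, 2), (0, 2), (0, 11), (0, 11), (0, 2), (0, 2), (0, 11), (1, 2), (0, 11), (0, 11), (0, 11), (0, 2), (0, 2), (0, 11), (0, 2), (0, 2)],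
  [(0, 3), (0, 3), (0, 3), (2, 3), (1, 4), (5, 1), (9, 11), (0, 11), (0, 2), (4, 2), (0, 2), (0, 11), (0, 11), (0, 2), (0, 11), (2, 11), (0, 2), (1, 11), (1, 2), (1, 2), (0, 2), (0, 11), (0, 11), (0, 2), (0, 11), (1, 2), (0, 2), (0, 2), (0, 6), (0, 2), (0, 11), (0, 2), (0, 11), (0, 2), (0, 11), (0, 11), (0, 2), (0, 2), (0, 11), (0, 2), (0, 11), (0, 2), (0, 2), (1, 11), (0, 2), (0, 2), (0, 11), (0, 11), (1, 2)],
  [(2, 10), (4, 9), (6, 12), (8, 11), (0, 11), (1, 2), (1, 2), (0, 11), (2, 11), (1, 2), (0, 2), (0, 11), (0, 2), (0, 2), (1, 2), (2, 2), (0, 2), (0, 2), (0, 2), (0, 2), (0, 2), (0, 11), (0, 11), (0, 11), (0, 2), (0, 11), (0, 2), (0, 2), (0, 6), (1, 2), (0, 2), (0, 11), (0, 11), (0, 11), (0, 11), (0, 11), (0, 11), (0, 11), (1, 11), (0, 2), (0, 2), (0, 11), (1, 11), (0, 2), (0, 2), (0, 11)],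
  [(0, 10), (0, 10), (0, 10), (0, 3), (0, 10), (0, 10), (1, 7), (0, 12), (0, 12), (0, 1), (0, 12), (0, 12), (0, 1), (1, 12), (1, 1), (1, 1), (3, 2), (0, 2), (1, 11), (1, 11), (0, 2), (0, 11), (1, 2), (1, 11), (0, 11), (1, 11), (3, 2), (0, 11), (0, 11), (0, 11), (0, 11), (1, 11), (0, 11), (0, 2), (0, 2), (1, 11), (0, 2), (0, 2), (0, 11), (1, 6), (0, 11), (0, 2), (0, 11), (0, 2), (1, 2), (0, 11), (0, 2), (0, 2), (0, 2), (0, 2), (0, 2), (0, 2), (0, 2), (0, 2), (0, 11), (0, 2), (0, 11), (0, 11), (0, 2)],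
  [(0, 3), (0, 3), (0, 3), (1, 3), (0, 3), (1, 2), (0, 11), (0, 12), (0, 1), (0, 12), (0, 12), (1, 1), (2, 1), (1, 1), (0, 12), (0, 12), (0, 11), (1, 11), (0, 11), (0, 11), (2, 11), (1, 2), (1, 11), (0, 2), (2, 2), (0, 11), (2, 11), (0, 2), (0, 11), (0, 2), (0, 2), (0, 2), (0, 11), (0, 2), (0, 2), (0, 2), (1, 2), (0, 2), (0, 11), (0, 2), (0, 2), (0, 11), (0, 6), (0, 11), (1, 2), (0, 11), (0, 2), (1, 2), (0, 11), (0, 2), (0, 11), (0, 2), (0, 11), (1, 2), (0, 2), (0, 2), (0, 2), (0, 2), (0, 11)],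
  [(0, 3), (0, 3), (0, 3), (0, 10), (2, 3), (0, 3), (0, 12), (1, 1), (1, 12), (1, 1), (3, 1), (2, 12), (0, 11), (4, 2), (0, 2), (0, 2), (0, 11), (0, 11), (0, 2), (1, 2), (3, 2), (0, 2), (0, 2), (1, 11), (0, 2), (0, 2), (1, 11), (0, 11), (0, 2), (2, 2), (0, 11), (0, 2), (0, 11), (0, 11), (0, 2), (0, 2), (0, 11), (0, 6), (0, 2), (0, 2), (0, 11), (0, 11), (0, 11), (0, 11), (1, 11), (0, 2), (0, 2), (0, 2), (0, 11), (0, 2), (0, 11), (0, 11), (0, 2), (0, 2), (0, 11)],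
  [(2, 10), (0, 3), (1, 10), (0, 10), (0, 8), (0, 12), (2, 12), (5, 1), (1, 1), (2, 11), (2, 11), (0, 11), (0, 2), (4, 2), (0, 11), (0, 2), (1, 2), (0, 2), (0, 11), (2, 11), (0, 2), (1, 11), (0, 2), (0, 11), (2, 2), (0, 2), (0, 11), (0, 11), (0, 11), (0, 11), (0, 2), (0, 11), (0, 11), (1, 2), (0, 6), (0, 2), (0, 11), (0, 2), (0, 2), (0, 11), (0, 11), (0, 2), (0, 11), (0, 2), (0, 2), (0, 11), (0, 2), (0, 2), (0, 2), (0, 11), (0, 2), (0, 11)],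
  [(1, 10), (0, 10), (0, 3), (1, 10), (1, 9), (9, 12), (6, 2), (0, 11), (0, 11), (0, 2), (0, 11), (1, 11), (1, 2), (0, 11), (3, 2), (1, 11), (0, 2), (0, 2), (2, 11), (0, 2), (1, 11), (0, 2), (0, 2), (0, 2), (0, 2), (0, 2), (0, 11), (0, 2), (0, 11), (0, 11), (0, 2), (0, 2), (0, 2), (0, 2), (0, 6), (0, 2), (0, 11), (0, 11), (0, 2), (0, 11), (0, 2), (0, 2), (0, 2), (1, 11), (0, 11), (0, 2), (1, 11), (0, 11), (0, 11)],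
  [(2, 3), (2, 3), (0, 3), (0, 1), (0, 11), (0, 12), (0, 2), (0, 12), (0, 12), (0, 1), (0, 1), (0, 12), (0, 1), (0, 1), (0, 1), (0, 1), (0, 12), (0, 12), (1, 2), (2, 11), (0, 11), (0, 11), (1, 11), (0, 2), (2, 11), (0, 11), (0, 11), (0, 11), (3, 2), (0, 11), (0, 2), (0, 2), (0, 11), (0, 11), (0, 2), (1, 2), (0, 2), (0, 2), (0, 2), (1, 2), (0, 11), (0, 11), (1, 11), (0, 11), (0, 11), (0, 2), (0, 6), (0, 2), (0, 2), (1, 2), (0, 2), (0, 2), (0, 2), (0, 11), (0, 11), (0, 2), (0, 11), (0, 2), (0, 2), (0, 11), (0, 2)],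
  [(1, 3), (0, 3), (2, 3), (1, 6), (0, 1), (0, 1), (0, 12), (0, 1), (1, 12), (0, 12), (1, 12), (0, 12), (2, 1), (1, 11), (0, 2), (0, 11), (1, 11), (0, 11), (3, 2), (3, 11), (1, 11), (0, 11), (0, 2), (0, 11), (0, 11), (1, 2), (0, 2), (0, 11), (0, 2), (0, 11), (0, 11), (0, 2), (0, 2), (0, 11), (0, 11), (1, 11), (0, 2), (0, 11), (0, 2), (0, 2), (0, 11), (0, 2), (0, 11), (0, 2), (0, 6), (1, 2), (0, 2), (0, 2), (0, 11), (0, 2), (1, 11), (1, 11), (0, 11), (0, 2), (0, 2), (0, 2)],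
  [(0, 10), (1, 10), (0, 3), (2, 10), (0, 8), (0, 12), (0, 12), (0, 1), (1, 12), (9, 11), (0, 2), (0, 11), (0, 11), (0, 11), (0, 11), (1, 11), (1, 2), (6, 11), (1, 11), (0, 11), (0, 2), (0, 11), (0, 11), (0, 2), (0, 2), (0, 11), (0, 2), (0, 11), (1, 11), (0, 11), (0, 2), (0, 11), (0, 2), (0, 11), (0, 11), (1, 11), (0, 2), (0, 11), (0, 2), (1, 6), (0, 2), (0, 2), (0, 2), (1, 2), (0, 11), (0, 11), (0, 2), (0, 11), (0, 2), (0, 2), (0, 11), (0, 11)],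
  [(0, 10), (0, 10), (0, 10), (0, 3), (3, 9), (1, 1), (13, 2), (1, 11), (0, 11), (0, 11), (0, 11), (0, 11), (0, 11), (0, 2), (2, 11), (1, 11), (2, 11), (1, 2), (1, 11), (0, 11), (0, 2), (0, 11), (0, 2), (0, 11), (0, 11), (1, 2), (0, 2), (0, 2), (0, 2), (0, 11), (0, 11), (0, 2), (0, 2), (0, 11), (0, 11), (0, 2), (1, 2), (0, 2), (0, 6), (0, 2), (0, 2), (0, 11), (0, 2), (0, 2), (0, 11), (0, 11), (0, 11), (1, 2), (1, 11)],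
  [(2, 3), (2, 3), (1, 4), (3, 12), (10, 2), (2, 2), (1, 11), (0, 11), (1, 2), (0, 2), (0, 11), (1, 11), (0, 11), (1, 11), (0, 11), (1, 11), (2, 2), (0, 2), (0, 2), (0, 2), (0, 2), (1, 11), (0, 2), (0, 11), (0, 2), (0, 2), (0, 2), (0, 2), (0, 11), (0, 2), (0, 11), (1, 11), (0, 11), (0, 2), (0, 2), (0, 2), (0, 2), (0, 6), (0, 2), (0, 2), (0, 11), (1, 2), (0, 2), (0, 2), (0, 11), (0, 11), (0, 2)],
  [(0, 10), (0, 10), (0, 10), (0, 3), (1, 10), (0, 10), (0, 10), (0, 1), (1, 12), (0, 1), (0, 1), (2, 1), (3, 12), (3, 2), (0, 2), (0, 11), (0, 11), (1, 11), (3, 2), (1, 11), (1, 2), (1, 11), (0, 11), (0, 11), (1, 2), (2, 2), (0, 11), (0, 11), (0, 2), (0, 11), (1, 2), (0, 11), (0, 11), (0, 11), (0, 11), (1, 2), (0, 2), (0, 11), (0, 2), (0, 2), (0, 2), (0, 2), (0, 2), (0, 2), (0, 2), (0, 6), (0, 11), (0, 11), (0, 2), (0, 2), (0, 2), (0,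 2), (0, 2), (0, 11), (0, 11), (0, 2)],
  [(1, 10), (0, 10), (0, 3), (0, 10), (0, 10), (1, 11), (0, 1), (0, 1), (0, 11), (0, 1), (0, 1), (0, 12), (0, 12), (0, 1), (0, 12), (1, 12), (3, 2), (0, 11), (0, 2), (0, 2), (1, 2), (0, 11), (0, 2), (3, 11), (1, 11), (4, 2), (0, 2), (0, 11), (0, 11), (0, 2), (0, 2), (1, 11), (0, 11), (0, 2), (0, 11), (0, 2), (0, 2), (0, 11), (1, 2), (0, 11), (0, 2), (0, 11), (0, 2), (0, 11), (0, 2), (0, 2), (0, 11), (1, 11), (0, 2), (0, 11), (0, 6), (0, 2), (0, 2), (0, 2), (0, 11), (0, 2), (0, 2), (1, 2), (0, 2)],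
  [(0, 3), (0, 3), (0, 3), (2, 3), (0, 3), (0, 5), (0, 1), (3, 1), (6, 12), (1, 1), (0, 11), (1, 11), (1, 11), (3, 11), (0, 2), (1, 11), (0, 2), (0, 11), (0, 11), (2, 2), (0, 2), (1, 11), (0, 2), (1, 11), (0, 11), (0, 11), (0, 11), (1, 11), (0, 11), (0, 2), (1, 2), (0, 2), (0, 2), (0, 2), (0, 2), (0, 2), (0, 2), (0, 2), (0, 2), (0, 2), (0, 2), (0, 2), (0, 11), (0, 11), (0, 2), (0, 6), (0, 11), (1, 2), (0, 11), (0, 2), (0, 2), (0, 2), (0, 11)],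
  [(0, 3), (1, 3), (0, 10), (0, 3), (1, 3), (0, 3), (0, 12), (0, 12), (0, 1), (3, 1), (1, 1), (3, 12), (3, 2), (0, 11), (1, 2), (2, 11), (0, 11), (0, 2), (2, 2), (1, 2), (0, 2), (0, 11), (0, 2), (0, 2), (1, 11), (0, 11), (0, 11), (0, 11), (0, 2), (0, 2), (0, 2), (0, 11), (0, 2), (0, 2), (0, 11), (0, 11), (1, 2), (0, 2), (0, 11), (0, 2), (0, 2), (1, 11), (1, 11), (0, 2), (1, 2), (0, 2), (0, 11), (0, 6), (0, 11), (0, 11), (0, 2), (0, 2), (0, 2), (0, 11), (0, 11)],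
  [(2, 3), (0, 10), (3, 4), (0, 12), (13, 2), (1, 2), (0, 2), (0, 2), (2, 2), (0, 2), (0, 11), (1, 2), (0, 11), (1, 2), (0, 11), (2, 11), (2, 2), (0, 11), (0, 11), (0, 2), (0, 2), (0, 11), (0, 11), (0, 11), (0, 2), (0, 11), (0, 11), (0, 11), (0, 11), (0, 11), (0, 2), (1, 11), (0, 11), (0, 11), (0, 11), (0, 11), (0, 11), (0, 11), (0, 2), (0, 2), (0, 2), (1, 11), (0, 6), (0, 2), (0, 2), (1, 11), (0, 2)],
  [(0, 10), (1, 10), (0, 3), (0, 10), (0, 10), (0, 10), (0, 10), (0, 1), (0, 1), (0, 12), (0, 1), (1, 12), (3, 12), (4, 11), (0, 2), (2, 11), (2, 2), (2, 2), (2, 11), (0, 2), (0, 11), (0, 11), (0, 2), (0, 11), (0, 11), (1, 11), (0, 11), (0, 11), (0, 11), (1, 2), (0, 2), (0, 2), (0, 2), (1, 2), (0, 11), (0, 2), (1, 2), (0, 2), (0, 2), (0, 2), (0, 11), (0, 2), (1, 2), (0, 11), (0, 2), (0, 2), (0, 11), (0, 2), (0, 11), (0, 2), (0,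 6), (0, 11), (0, 11), (0, 11), (0, 2), (0, 2)],
  [(1, 10), (0, 10), (0, 3), (1, 10), (0, 10), (0, 8), (2, 1), (1, 12), (2, 12), (2, 1), (3, 2), (0, 11), (0, 2), (2, 2), (0, 11), (1, 2), (2, 11), (2, 2), (0, 2), (0, 11), (0, 11), (2, 2), (1, 11), (1, 11), (0, 11), (0, 2), (0, 11), (0, 2), (0, 11), (0, 2), (1, 2), (0, 2), (0, 11), (0, 11), (0, 2), (0, 11), (0, 2), (0, 2), (0, 11), (0, 11), (0, 11), (0, 11), (0, 2), (0, 2), (0, 2), (0, 11), (0, 2), (0, 2), (0, 11), (0, 6), (0, 2), (1, 2), (0, 2)],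
  [(0, 3), (1, 3), (1, 3), (0, 3), (0, 3), (0, 5), (0, 1), (0, 1), (7, 12), (2, 1), (4, 11), (0, 11), (1, 11), (0, 11), (0, 11), (0, 2), (1, 11), (2, 11), (0, 2), (1, 11), (0, 2), (0, 2), (1, 11), (0, 2), (0, 2), (0, 11), (0, 2), (0, 11), (0, 2), (0, 2), (0, 11), (1, 2), (0, 2), (0, 11), (0, 2), (0, 2), (0, 2), (0, 11), (0, 2), (1, 2), (0, 11), (0, 2), (1, 11), (0, 2), (0, 2), (0, 2), (0, 2), (1, 11), (0, 2), (0, 6), (0, 2), (0, 11), (0, 11)],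
  [(0, 10), (1, 10), (4, 9), (2, 12), (11, 11), (0, 2), (0, 11), (0, 11), (1, 11), (0, 2), (0, 11), (0, 11), (2, 2), (1, 2), (0, 11), (1, 2), (4, 2), (0, 11), (0, 11), (0, 2), (0, 2), (0, 2), (0, 11), (0, 2), (0, 2), (0, 11), (0, 2), (0, 11), (0, 11), (0, 2), (0, 11), (0, 2), (0, 2), (0, 11), (0, 11), (0, 2), (0, 2), (0, 2), (0, 2), (0, 11), (0, 11), (1, 2), (0, 2), (0, 11), (0, 11), (1, 2), (0, 6)],
  [(2, 10), (0, 3), (0, 10), (0, 10), (0, 10), (0, 8), (1, 12), (0, 1), (2, 1), (2, 1), (6, 11), (1, 2), (1, 2), (1, 2), (0, 2), (2, 11), (0, 2), (0, 11), (0, 2), (1, 11), (0, 2), (1, 11), (1, 11), (0, 2), (0, 2), (0, 11), (1, 2), (0, 2), (0, 11), (0, 11), (0, 11), (0, 11), (0, 2), (1, 11), (0, 11), (0, 2), (0, 2), (0, 2), (0, 11), (0, 11), (0, 2), (0, 11), (1, 2), (0, 11), (0, 2), (0, 2), (0, 11), (0, 2), (0, 2), (0, 2), (0, 11),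 (1, 6), (0, 2)],
  [(0, 10), (0, 10), (0, 10), (0, 3), (0, 10), (0, 10), (0, 10), (0, 8), (0, 12), (1, 1), (0, 12), (2, 1), (7, 2), (1, 2), (0, 2), (2, 11), (0, 2), (0, 2), (3, 11), (0, 11), (0, 2), (0, 11), (0, 11), (1, 11), (2, 11), (0, 11), (0, 2), (0, 11), (0, 11), (0, 11), (0, 11), (0, 2), (0, 2), (0, 11), (0, 11), (0, 2), (0, 2), (1, 2), (0, 11), (0, 11), (0, 11), (0, 11), (0, 2), (0, 2), (0, 11), (0, 11), (1, 2), (0, 2), (0, 11), (0, 11), (1, 2), (0, 2), (0, 11), (1, 2), (0, 6)]]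

/-- The runs of a generator. -/
def gen2 : List (List (ℕ × ℕ)) := [
  [(2, 1)],
  [(0, 12), (0, 12), (0, 12)],
  [(0, 1)],
  [(3, 12)],
  [(0, 12), (1, 12), (1, 12)],
  [(5, 12)],
  [(0, 12), (1, 12), (3, 12)],
  [(10, 1)],
  [(8, 12)],
  [(9, 12)],
  [(7, 1)],
  [(11, 12)],
  [(12, 12)],
  [(13, 12)],
  [(14, 12)],
  [(15, 12)],
  [(16, 12)],
  [(7, 12), (0, 12), (0, 12), (0, 1), (0, 12), (1, 1), (3, 1)],
  [(18, 12)],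
  [(7, 12), (0, 12), (1, 1), (0, 12), (0, 12), (2, 12), (3, 1)],
  [(7, 1), (0, 1), (0, 1), (0, 12), (3, 12), (1, 12), (3, 1)],
  [(7, 1), (0, 1), (1, 12), (1, 1), (1, 12), (3, 12), (2, 1)],
  [(47, 12)],
  [(56, 1)],
  [(55, 1)],
  [(43, 12)],
  [(26, 12)],
  [(66, 1)],
  [(65, 1)],
  [(45, 1)],
  [(46, 12)],
  [(31, 12)],
  [(32, 12)],
  [(71, 12)],
  [(34, 12)],
  [(53, 1)],
  [(54, 1)],
  [(37, 12)],
  [(64, 1)],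
  [(39, 12)],
  [(40, 12)],
  [(41, 12)],
  [(42, 12)],
  [(25, 12)],
  [(44, 12)],
  [(29, 1)],
  [(30, 12)],
  [(22, 12)],
  [(48, 12)],
  [(49, 12)],
  [(50, 12)],
  [(51, 12)],
  [(52, 12)],
  [(35, 1)],
  [(36, 1)],
  [(24, 1)],
  [(23, 1)],
  [(57, 12)],
  [(58, 12)],
  [(59, 12)],
  [(60, 12)],
  [(61, 12)],
  [(62, 12)],
  [(63, 12)],
  [(38, 1)],
  [(28, 1)],
  [(27, 1)],
  [(67, 12)],
  [(30, 12), (5, 12), (1, 1), (1, 1), (0, 1), (0, 12), (0, 7), (0, 7), (0, 6), (0, 6), (0, 7), (0, 6), (0, 7), (0, 6), (0, 7), (0, 7), (0, 7), (0, 7), (0, 6), (0, 7), (0, 7), (0, 6), (0, 7), (0, 6), (0, 7), (0, 7), (0, 6), (0, 6), (0, 7), (0, 6), (0, 6), (0, 7), (0, 7), (0, 7), (0, 6), (0, 6), (0, 6), (0, 7), (0, 7), (0, 6), (0, 6)],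
  [(69, 12)],
  [(70, 12)],
  [(33, 12)],
  [(72, 12)],
  [(25, 12), (3, 12), (5, 1), (1, 1), (1, 12), (2, 1), (0, 6), (0, 6), (0, 7), (0, 7), (0, 7), (0, 7), (0, 6), (0, 7), (0, 6), (0, 7), (0, 6), (0, 6), (0, 6), (0, 7), (0, 6), (0, 7), (0, 6), (0, 7), (0, 7), (0, 6), (0, 6), (0, 7), (0, 7), (0, 6), (0, 7), (0, 6), (0, 6), (0, 7), (0, 6), (0, 6), (0, 7), (0, 7), (0, 7), (0, 6), (0, 6)],
  [(74, 12)],
  [(75, 1)],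
  [(22, 12), (1, 12), (3, 1), (5, 1), (4, 1), (1, 12), (1, 7), (0, 7), (0, 6), (0, 7), (0, 6), (0, 7), (0, 7), (0, 6), (0, 6), (0, 6), (0, 7), (0, 6), (0, 7), (0, 7), (0, 6), (0, 7), (0, 7), (0, 7), (0, 6), (0, 6), (0, 7), (0, 7), (0, 6), (0, 6), (0, 6), (0, 6), (0, 7), (0, 6), (0, 6), (0, 7), (0, 6), (0, 6), (0, 7), (0, 7), (0, 6)],
  [(23, 1), (3, 12), (5, 1), (0, 12), (2, 12), (2, 12), (2, 7), (0, 6), (0, 6), (0, 7), (0, 7), (0, 6), (0, 6), (0, 7), (0, 7), (0, 6), (0, 7), (0, 6), (0, 6), (0, 6), (0, 7), (0, 6), (0, 6), (0, 6), (0, 6), (0, 7), (0, 7), (0, 7), (0, 7), (0, 7), (0, 7), (0, 6), (0, 6), (0, 6), (0, 7), (0, 7), (0, 6), (0, 6), (0, 7), (0, 6), (0, 7)]]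

/-- The runs of a generator. -/
def gen3 : List (List (ℕ × ℕ)) := [
  [(3, 1)],
  [(1, 12)],
  [(2, 12)],
  [(0, 1)],
  [(4, 12)],
  [(5, 12)],
  [(6, 12)],
  [(7, 12)],
  [(10, 1)],
  [(9, 12)],
  [(8, 1)],
  [(11, 12)],
  [(12, 12)],
  [(17, 12)],
  [(14, 12)],
  [(19, 1)],
  [(20, 1)],
  [(13, 12)],
  [(21, 1)],
  [(15, 1)],
  [(16, 1)],
  [(18, 1)],
  [(22, 12)],
  [(26, 1)],
  [(24, 12)],
  [(25, 12)],
  [(23, 1)],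
  [(31, 1)],
  [(34, 12)],
  [(29, 12)],
  [(30, 12)],
  [(27, 1)],
  [(32, 12)],
  [(33, 1)],
  [(28, 12)],
  [(37, 12)],
  [(36, 12)],
  [(35, 12)],
  [(40, 12)],
  [(39, 12)],
  [(38, 12)],
  [(41, 12)],
  [(42, 12)],
  [(44, 12)],
  [(43, 12)],
  [(49, 1)],
  [(51, 1)],
  [(52, 12)],
  [(48, 12)],
  [(45, 1)],
  [(50, 12)],
  [(46, 1)],
  [(47, 12)],
  [(53, 12)],
  [(60, 1)],
  [(61, 1)],
  [(56, 12)],
  [(57, 12)],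
  [(68, 1)],
  [(59, 12)],
  [(54, 1)],
  [(55, 1)],
  [(62, 12)],
  [(63, 12)],
  [(64, 12)],
  [(65, 12)],
  [(66, 12)],
  [(67, 12)],
  [(58, 1)],
  [(73, 1)],
  [(70, 12)],
  [(75, 1)],
  [(72, 12)],
  [(69, 1)],
  [(76, 1)],
  [(71, 1)],
  [(74, 1)],
  [(77, 12)]]

/-- The runs of a generator. -/
def gen4 : List (List (ℕ × ℕ)) := [
  [(1, 1)],
  [(0, 1)],
  [(0, 12), (0, 12), (0, 12)],
  [(3, 12)],
  [(4, 12)],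
  [(5, 12)],
  [(6, 12)],
  [(7, 12)],
  [(9, 12)],
  [(8, 12)],
  [(10, 12)],
  [(13, 1)],
  [(12, 12)],
  [(11, 1)],
  [(16, 12)],
  [(15, 12)],
  [(14, 12)],
  [(17, 12)],
  [(18, 12)],
  [(7, 11), (0, 12), (0, 12), (0, 1), (0, 12), (0, 12), (0, 1), (1, 12), (1, 1), (1, 1)],
  [(20, 12)],
  [(7, 2), (0, 1), (0, 1), (0, 12), (1, 1), (1, 12), (1, 12), (1, 12), (1, 1), (0, 1)],
  [(23, 1)],
  [(22, 1)],
  [(27, 12)],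
  [(25, 12)],
  [(26, 12)],
  [(24, 12)],
  [(33, 12)],
  [(29, 12)],
  [(30, 12)],
  [(31, 12)],
  [(32, 12)],
  [(28, 12)],
  [(34, 1)],
  [(35, 12)],
  [(36, 12)],
  [(39, 1)],
  [(38, 12)],
  [(37, 1)],
  [(41, 12)],
  [(40, 12)],
  [(42, 12)],
  [(43, 12)],
  [(48, 1)],
  [(45, 12)],
  [(46, 12)],
  [(56, 12)],
  [(44, 1)],
  [(57, 12)],
  [(58, 12)],
  [(59, 12)],
  [(52, 12)],
  [(53, 12)],
  [(54, 12)],
  [(66, 12)],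
  [(47, 12)],
  [(49, 12)],
  [(50, 12)],
  [(51, 12)],
  [(67, 12)],
  [(61, 12)],
  [(69, 12)],
  [(63, 12)],
  [(64, 12)],
  [(71, 1)],
  [(55, 12)],
  [(60, 12)],
  [(68, 12)],
  [(62, 12)],
  [(70, 12)],
  [(65, 1)],
  [(72, 12)],
  [(73, 12)],
  [(74, 12)],
  [(75, 12)],
  [(77, 12)],
  [(76, 12)]]

/-- The runs of a generator. -/
def gen5 : List (List (ℕ × ℕ)) := [
  [(0, 12)],
  [(4, 12)],
  [(2, 12)],
  [(3, 12)],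
  [(1, 12)],
  [(5, 12)],
  [(6, 12)],
  [(7, 12)],
  [(8, 12)],
  [(12, 12)],
  [(10, 12)],
  [(11, 12)],
  [(9, 12)],
  [(15, 1)],
  [(14, 12)],
  [(13, 1)],
  [(18, 12)],
  [(19, 12)],
  [(16, 12)],
  [(17, 12)],
  [(21, 12)],
  [(20, 12)],
  [(25, 12)],
  [(23, 12)],
  [(29, 12)],
  [(22, 12)],
  [(26, 12)],
  [(27, 12)],
  [(35, 12)],
  [(24, 12)],
  [(30, 12)],
  [(31, 12)],
  [(32, 12)],
  [(33, 12)],
  [(37, 12)],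
  [(28, 12)],
  [(36, 12)],
  [(34, 12)],
  [(38, 12)],
  [(39, 1)],
  [(40, 12)],
  [(42, 1)],
  [(41, 1)],
  [(47, 12)],
  [(52, 12)],
  [(55, 12)],
  [(46, 12)],
  [(43, 12)],
  [(48, 12)],
  [(61, 12)],
  [(63, 12)],
  [(51, 12)],
  [(44, 12)],
  [(65, 12)],
  [(54, 12)],
  [(45, 12)],
  [(56, 12)],
  [(57, 12)],
  [(58, 12)],
  [(70, 12)],
  [(60, 12)],
  [(49, 12)],
  [(62, 12)],
  [(50, 12)],
  [(64, 12)],
  [(53, 12)],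
  [(66, 12)],
  [(72, 12)],
  [(68, 12)],
  [(74, 12)],
  [(59, 12)],
  [(71, 12)],
  [(67, 12)],
  [(76, 12)],
  [(69, 12)],
  [(75, 12)],
  [(73, 12)],
  [(77, 12)]]

/-- The runs of a generator. -/
def gen6 : List (List (ℕ × ℕ)) := [
  [(0, 12)],
  [(1, 12)],
  [(2, 12)],
  [(3, 12)],
  [(6, 12)],
  [(5, 12)],
  [(4, 12)],
  [(7, 12)],
  [(8, 12)],
  [(9, 12)],
  [(10, 12)],
  [(11, 12)],
  [(7, 1), (0, 1), (0, 1), (0, 12), (1, 1)],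
  [(13, 12)],
  [(14, 12)],
  [(7, 1), (2, 12), (0, 1), (1, 12), (1, 1)],
  [(16, 12)],
  [(17, 12)],
  [(7, 12), (2, 1), (3, 1), (1, 1), (1, 1)],
  [(7, 12), (0, 12), (2, 12), (5, 1), (1, 1)],
  [(20, 12)],
  [(7, 1), (0, 1), (5, 12), (5, 1), (0, 1)],
  [(22, 12)],
  [(23, 12)],
  [(24, 12)],
  [(30, 12)],
  [(26, 12)],
  [(27, 12)],
  [(28, 12)],
  [(36, 12)],
  [(25, 12)],
  [(31, 12)],
  [(32, 12)],
  [(33, 12)],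
  [(34, 12)],
  [(38, 12)],
  [(29, 12)],
  [(40, 12)],
  [(35, 12)],
  [(41, 1)],
  [(37, 12)],
  [(39, 1)],
  [(42, 1)],
  [(46, 12)],
  [(51, 1)],
  [(54, 12)],
  [(43, 12)],
  [(47, 12)],
  [(59, 12)],
  [(60, 12)],
  [(62, 12)],
  [(44, 1)],
  [(52, 12)],
  [(64, 12)],
  [(45, 12)],
  [(55, 12)],
  [(56, 12)],
  [(67, 12)],
  [(69, 12)],
  [(48, 12)],
  [(49, 12)],
  [(61, 12)],
  [(50, 12)],
  [(63, 12)],
  [(53, 12)],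
  [(65, 12)],
  [(66, 12)],
  [(57, 12)],
  [(73, 12)],
  [(58, 12)],
  [(70, 12)],
  [(71, 12)],
  [(72, 12)],
  [(68, 12)],
  [(74, 12)],
  [(75, 12)],
  [(76, 12)],
  [(77, 12)]]

/-- The runs of a generator. -/
def gen7 : List (List (ℕ × ℕ)) := [
  [(0, 12)],
  [(1, 12)],
  [(2, 12)],
  [(5, 1)],
  [(4, 12)],
  [(3, 1)],
  [(6, 12)],
  [(7, 12)],
  [(11, 12)],
  [(13, 1)],
  [(10, 12)],
  [(8, 12)],
  [(15, 12)],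
  [(9, 1)],
  [(14, 12)],
  [(12, 12)],
  [(16, 12)],
  [(17, 12)],
  [(18, 12)],
  [(19, 12)],
  [(7, 2), (0, 1), (0, 1), (0, 12), (0, 1), (1, 12), (0, 12), (1, 12), (0, 12), (2, 1)],
  [(7, 2), (0, 1), (1, 12), (0, 1), (0, 1), (1, 12), (0, 1), (2, 12), (0, 12), (1, 1)],
  [(22, 12)],
  [(23, 12)],
  [(28, 1)],
  [(25, 12)],
  [(32, 1)],
  [(33, 1)],
  [(24, 1)],
  [(35, 1)],
  [(30, 12)],
  [(31, 1)],
  [(26, 1)],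
  [(27, 1)],
  [(34, 12)],
  [(29, 1)],
  [(38, 1)],
  [(37, 12)],
  [(36, 1)],
  [(39, 12)],
  [(40, 12)],
  [(41, 12)],
  [(42, 12)],
  [(43, 12)],
  [(50, 1)],
  [(53, 1)],
  [(46, 12)],
  [(47, 12)],
  [(58, 12)],
  [(49, 12)],
  [(44, 1)],
  [(62, 12)],
  [(63, 1)],
  [(45, 1)],
  [(64, 1)],
  [(65, 1)],
  [(56, 12)],
  [(57, 12)],
  [(48, 12)],
  [(69, 12)],
  [(60, 12)],
  [(61, 12)],
  [(51, 12)],
  [(52, 1)],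
  [(54, 1)],
  [(55, 1)],
  [(71, 12)],
  [(67, 12)],
  [(68, 12)],
  [(59, 12)],
  [(74, 12)],
  [(66, 12)],
  [(72, 12)],
  [(73, 12)],
  [(70, 12)],
  [(75, 12)],
  [(76, 12)],
  [(77, 12)]]

/-- The runs of a generator. -/
def gen8 : List (List (ℕ × ℕ)) := [
  [(0, 12), (4, 1)],
  [(1, 12), (3, 12)],
  [(2, 12), (2, 12)],
  [(3, 12), (1, 12)],
  [(4, 12), (0, 12)],
  [(5, 1)],
  [(5, 12), (0, 12)],
  [(7, 12)],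
  [(8, 12)],
  [(9, 12)],
  [(10, 12)],
  [(14, 1)],
  [(12, 12)],
  [(16, 12)],
  [(11, 1)],
  [(18, 1)],
  [(13, 12)],
  [(20, 1)],
  [(15, 1)],
  [(21, 1)],
  [(17, 1)],
  [(19, 1)],
  [(24, 12)],
  [(27, 1)],
  [(22, 12)],
  [(29, 12)],
  [(31, 1)],
  [(23, 1)],
  [(28, 12)],
  [(25, 12)],
  [(36, 12)],
  [(26, 1)],
  [(32, 1)],
  [(33, 12)],
  [(34, 12)],
  [(35, 12)],
  [(30, 12)],
  [(37, 12)],
  [(38, 12)],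
  [(39, 12)],
  [(40, 12)],
  [(41, 12)],
  [(42, 12)],
  [(45, 1)],
  [(49, 12)],
  [(43, 1)],
  [(54, 1)],
  [(55, 1)],
  [(57, 1)],
  [(44, 12)],
  [(50, 12)],
  [(60, 1)],
  [(61, 12)],
  [(53, 12)],
  [(46, 1)],
  [(47, 1)],
  [(66, 1)],
  [(48, 1)],
  [(58, 12)],
  [(67, 1)],
  [(51, 1)],
  [(52, 12)],
  [(62, 12)],
  [(63, 12)],
  [(64, 12)],
  [(65, 12)],
  [(56, 1)],
  [(59, 1)],
  [(68, 12)],
  [(69, 12)],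
  [(72, 1)],
  [(71, 12)],
  [(70, 1)],
  [(73, 12)],
  [(74, 12)],
  [(75, 12)],
  [(76, 12)],
  [(77, 12)]]

/-- The runs of the generators. -/
def gens : List (List (List (ℕ × ℕ))) := [gen0, gen1, gen2, gen3, gen4, gen5, gen6, gen7, gen8]

end CfsgLib.FiRep
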