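import Cfsg.Agent.Lib.FiRep.Sem
import Cfsg.Agent.Lib.FiRep.Data

/-!
Kernel checks of the relations of the matrices.
-/

set_option autoImplicit false
set_option maxRecDepth 100000

namespace CfsgLib.FiRep

/-- Words to check. -/
def words0 : List (List ℕ) := [[0, 0], [0, 1, 0, 1, 0, 1], [0, 2, 0, 2], [0, 3, 0, 3], [0, 4, 0, 4], [0, 5, 0, 5], [0, 6, 0, 6], [0, 7, 0, 7], [0, 8, 0, 8], [1, 0, 1, 0, 1, 0], [1, 1], [1, 2, 1, 2, 1, 2], [1, 3, 1, 3], [1, 4, 1, 4], [1, 5, 1, 5], [1, 6, 1, 6], [1, 7, 1, 7], [1, 8, 1, 8], [2, 0, 2, 0], [2, 1, 2, 1, 2, 1], [2, 2], [2, 3, 2, 3, 2, 3], [2, 4, 2, 4], [2, 5, 2, 5], [2, 6, 2, 6], [2, 7, 2, 7], [2, 8, 2, 8]]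

theorem words0_ok : (words0.all fun w => (w.all fun g => Nat.blt g 9) && beqL (evalP 78 gens w) (idP 78)) = true := by
  decide +kernel

/-- Words to check. -/
def words1 : List (List ℕ) := [[3, 0, 3, 0], [3, 1, 3, 1], [3, 2, 3, 2, 3, 2], [3, 3], [3, 4, 3, 4, 3, 4], [3, 5, 3, 5], [3, 6, 3, 6], [3, 7, 3, 7, 3, 7], [3, 8, 3, 8], [4, 0, 4, 0], [4, 1, 4, 1], [4, 2, 4, 2], [4, 3, 4, 3, 4, 3], [4, 4], [4, 5, 4, 5, 4, 5], [4, 6, 4, 6], [4, 7, 4, 7], [4, 8, 4, 8], [5, 0, 5, 0], [5, 1, 5, 1], [5, 2, 5, 2], [5, 3, 5, 3], [5, 4, 5, 4, 5, 4], [5, 5], [5, 6, 5, 6, 5, 6], [5, 7, 5, 7], [5, 8, 5, 8]]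

theorem words1_ok : (words1.all fun w => (w.all fun g => Nat.blt g 9) && beqL (evalP 78 gens w) (idP 78)) = true := by
  decide +kernel

/-- Words to check. -/
def words2 : List (List ℕ) := [[6, 0, 6, 0], [6, 1, 6, 1], [6, 2, 6, 2], [6, 3, 6, 3], [6, 4, 6, 4], [6, 5, 6, 5, 6, 5], [6, 6], [6, 7, 6, 7], [6, 8, 6, 8], [7, 0, 7, 0], [7, 1, 7, 1], [7, 2, 7, 2], [7, 3, 7, 3, 7, 3], [7, 4, 7, 4], [7, 5, 7, 5], [7, 6, 7, 6], [7, 7], [7, 8, 7, 8, 7, 8], [8, 0, 8, 0], [8, 1, 8, 1], [8, 2, 8, 2], [8, 3, 8, 3], [8, 4, 8, 4], [8, 5, 8, 5], [8, 6, 8, 6], [8, 7, 8, 7, 8, 7], [8, 8]]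

theorem words2_ok : (words2.all fun w => (w.all fun g => Nat.blt g 9) && beqL (evalP 78 gens w) (idP 78)) = true := by
  decide +kernel

/-- Words to check. -/
def words3 : List (List ℕ) := [[3, 2, 1, 3, 4, 5, 3, 7, 8, 3, 2, 1, 3, 4, 5, 3, 7, 8, 3, 2, 1, 3, 4, 5, 3, 7, 8, 3, 2, 1, 3, 4, 5, 3, 7, 8, 3, 2, 1, 3, 4, 5, 3, 7, 8, 3, 2, 1, 3, 4, 5, 3, 7, 8, 3, 2, 1, 3, 4, 5, 3, 7, 8, 3, 2, 1, 3, 4, 5, 3, 7, 8, 3, 2, 1, 3, 4, 5, 3, 7, 8, 3, 2, 1, 3, 4, 5, 3, 7, 8]]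

theorem words3_ok : (words3.all fun w => (w.all fun g => Nat.blt g 9) && beqL (evalP 78 gens w) (idP 78)) = true := by
  decide +kernel

/-- Words to check. -/
def words4 : List (List ℕ) := [[0, 1, 2, 3, 4, 5, 7, 0, 1, 2, 3, 4, 5, 7, 0, 1, 2, 3, 4, 5, 7, 0, 1, 2, 3, 4, 5, 7, 0, 1, 2, 3, 4, 5, 7, 0, 1, 2, 3, 4, 5, 7, 0, 1, 2, 3, 4, 5, 7, 0, 1, 2, 3, 4, 5, 7, 0, 1, 2, 3, 4, 5, 7]]

theorem words4_ok : (words4.all fun w => (w.all fun g => Nat.blt g 9) && beqL (evalP 78 gens w) (idP 78)) = true := by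
  decide +kernel

/-- Words to check. -/
def words5 : List (List ℕ) := [[1, 2, 3, 4, 5, 6, 7, 1, 2, 3, 4, 5, 6, 7, 1, 2, 3, 4, 5, 6, 7, 1, 2, 3, 4, 5, 6, 7, 1, 2, 3, 4, 5, 6, 7, 1, 2, 3, 4, 5, 6, 7, 1, 2, 3, 4, 5, 6, 7, 1, 2, 3, 4, 5, 6, 7, 1, 2, 3, 4, 5, 6, 7]]

theorem words5_ok : (words5.all fun w => (w.all fun g => Nat.blt g 9) && beqL (evalP 78 gens w) (idP 78)) = true := by
  decide +kernel

/-- All words. -/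
def words : List (List ℕ) := words0 ++ words1 ++ words2 ++ words3 ++ words4 ++ words5

theorem gens_ok : ((List.range 9).all fun g => okGen 78 (gens.getD g [])) = true := by
  decide +kernel

theorem id_ok : beqL (idP 78) ((idL 78).map pk) = true := by
  decide +kernel

theorem gen0_ne : beqL (evalP 78 gens [0]) (idP 78) = false := by
  decide +kernel

end CfsgLib.FiRep
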