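import Mathlib.Data.Nat.Bitwise

/-!
Products of sparse by packed matrices modulo thirteen.
-/

set_option autoImplicit false

namespace CfsgLib.FiRep

/-- The width of a slot. -/
abbrev slotB : ℕ := 4294967296

/-- A packed row. -/
def pk : List ℕ → ℕ
  | [] => 0
  | a :: l => a + slotB * pk l

/-- Fourteen low bits in each slot. -/
def mask : ℕ → ℕ
  | 0 => 0
  | n + 1 => 16383 + slotB * mask n

/-- Reduction of all slots modulo thirteen. -/
def red (n x : ℕ) : ℕ := x - 13 * (((x * 20165) >>> 18) &&& mask n)

/-- A sparse row times a packed matrix. -/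
def dotP : List (ℕ × ℕ) → List ℕ → ℕ
  | [], _ => 0
  | (s, v) :: r, Y =>
    match Y.drop s with
    | [] => 0
    | y :: t => v * y + dotP r t

/-- A sparse matrix times a packed matrix. -/
def mulP (n : ℕ) (g : List (List (ℕ × ℕ))) (Y : List ℕ) : List ℕ := g.map fun r => red n (dotP r Y)

/-- The packed identity. -/
def idP (n : ℕ) : List ℕ := (List.range n).map fun i => slotB ^ i

/-- The packed value of a word. -/
def evalP (n : ℕ) (G : List (List (List (ℕ × ℕ)))) (w : List ℕ) : List ℕ :=
  w.foldr (fun g Y => mulP n (G.getD g []) Y) (idP n)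

/-- Equality of lists of numbers. -/
def beqL : List ℕ → List ℕ → Bool
  | [], [] => true
  | a :: l, b :: m => Nat.beq a b && beqL l m
  | _, _ => false

end CfsgLib.FiRep
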