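import Cfsg.Agent.Lib.FiRep.Check
import Cfsg.Agent.Lib.Fi22P.Perm
import Mathlib.LinearAlgebra.Matrix.GeneralLinearGroup.Defs

/-!
The representation of degree 78 modulo thirteen of the presented Fischer group.
-/

set_option autoImplicit false
set_option maxRecDepth 100000

namespace CfsgLib.FiRep

open CfsgLib.PresCert CfsgLib.Fi22P Matrix

attribute [local irreducible] gens evalP words

theorem hid : idP 78 = (idL 78).map pk := eq_of_beqL id_ok

theorem gen_ok {g : ℕ} (hg : g < 9) : okGen 78 (gens.getD g []) = true :=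
  List.all_eq_true.1 gens_ok g (List.mem_range.2 hg)

/-- The matrix of a generator. -/
noncomputable def gm (g : ℕ) : Matrix (Fin 78) (Fin 78) (ZMod 13) := genMat 78 (gens.getD g [])

theorem words_spec {w : List ℕ} (hw : w ∈ words) : (∀ g ∈ w, g < 9) ∧ (w.map gm).prod = 1 := by
  have h : ((w.all fun g => Nat.blt g 9) && beqL (evalP 78 gens w) (idP 78)) = true := by
    unfold words at hw
    simp only [List.mem_append] at hw
    rcases hw with ((((hw | hw) | hw) | hw) | hw) | hw
    · exact List.all_eq_true.1 words0_ok w hw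
    · exact List.all_eq_true.1 words1_ok w hw
    · exact List.all_eq_true.1 words2_ok w hw
    · exact List.all_eq_true.1 words3_ok w hw
    · exact List.all_eq_true.1 words4_ok w hw
    · exact List.all_eq_true.1 words5_ok w hw
  simp only [Bool.and_eq_true, List.all_eq_true, Nat.blt_eq] at h
  exact ⟨h.1, prod_eq_one hid (fun g hg => gen_ok (h.1 g hg)) h.2⟩

theorem rels_covered : (fiData.rels.all fun w => words.contains w.reverse) = true := by decide +kernel

theorem squares_covered : ((List.range 9).all fun g => words.contains [g, g]) = true := by decide +kernel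

theorem gm_sq (g : ℕ) (hg : g < 9) : gm g * gm g = 1 := by
  have h := (words_spec (List.contains_iff_mem.1 (List.all_eq_true.1 squares_covered g (List.mem_range.2 hg)))).2
  simpa using h

attribute [local irreducible] gm

/-- The unit of a generator. -/
noncomputable def gu (x : Cfsg.Spor.Fi22.Gen) : GL (Fin 78) (ZMod 13) :=
  ⟨gm (genIx x), gm (genIx x), gm_sq _ (fi_ok.ix_lt x), gm_sq _ (fi_ok.ix_lt x)⟩

theorem lift_val (L : List (Cfsg.Spor.Fi22.Gen × Bool)) :
    ((FreeGroup.lift gu (FreeGroup.mk L) : GL (Fin 78) (ZMod 13)) : Matrix (Fin 78) (Fin 78) (ZMod 13)) =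
      ((L.map fun p => genIx p.1).map gm).prod := by
  induction L with
  | nil => rw [← FreeGroup.one_eq_mk, map_one]; rfl
  | cons p L ih =>
    obtain ⟨x, b⟩ := p
    rw [show FreeGroup.mk ((x, b) :: L) = FreeGroup.mk [(x, b)] * FreeGroup.mk L from rfl, map_mul,
      Units.val_mul, ih, List.map_cons, List.map_cons, List.prod_cons]
    refine congrArg₂ (· * ·) ?_ rfl
    cases b
    · have e : FreeGroup.mk [(x, false)] = (FreeGroup.of x)⁻¹ := rfl
      rw [e, map_inv, FreeGroup.lift_apply_of]
      rfl
    · exact congrArg Units.val (FreeGroup.lift_apply_of (f := gu) (x := x))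

theorem lift_rel : ∀ r ∈ Cfsg.Spor.coxRelators fiData.edges ∪ {r | r ∈ fiData.extra},
    FreeGroup.lift gu r = 1 := by
  intro r hr
  have hm := List.all_eq_true.1 rels_covered (r.toWord.map fun p => fiData.ix p.1).reverse
    (List.mem_map.2 ⟨r, CoxData.relList_mem.2 hr, rfl⟩)
  rw [List.reverse_reverse, List.contains_iff_mem] at hm
  refine Units.ext ?_
  have e := lift_val r.toWord
  rw [FreeGroup.mk_toWord] at e
  rw [e]
  exact (words_spec hm).2

/-- The representation. -/
noncomputable def rep : Cfsg.Spor.Fi22 →* GL (Fin 78) (ZMod 13) := PresentedGroup.toGroup lift_rel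

theorem gm_zero_ne : gm 0 ≠ 1 := by
  intro h
  obtain ⟨e1, e2, e3, e4⟩ := eval_spec gens hid [0] (by intro g hg; simp at hg; subst hg; exact gen_ok (by norm_num))
  have he : evalL 78 gens [0] = idL 78 := by
    refine List.ext_getElem (by rw [e3]; simp [idL]) fun i h1 h2 => ?_
    obtain ⟨l1, b1⟩ := e2 _ (List.getElem_mem h1)
    obtain ⟨l2, b2⟩ := idL_good (n := 78) _ (List.getElem_mem h2)
    refine List.ext_getElem (l1.trans l2.symm) fun j j1 j2 => ?_
    have hmat : toMat 78 (evalL 78 gens [0]) = toMat 78 (idL 78) := by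
      rw [e4, toMat_idL]; simpa [gm] using h
    have := congrFun (congrFun hmat ⟨i, by omega⟩) ⟨j, by omega⟩
    simp only [toMat, Matrix.of_apply] at this
    rw [List.getD_eq_getElem _ [] h1, List.getD_eq_getElem _ 0 j1, List.getD_eq_getElem _ [] h2,
      List.getD_eq_getElem _ 0 j2, ZMod.natCast_eq_natCast_iff', Nat.mod_eq_of_lt (b1 _ (List.getElem_mem j1)),
      Nat.mod_eq_of_lt (b2 _ (List.getElem_mem j2))] at this
    exact this
  have hb := gen0_ne
  rw [e1, he, hid] at hb
  have : ∀ l : List ℕ, beqL l l = true := fun l => by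
    induction l with
    | nil => rfl
    | cons a l ih => simp [beqL, ih]
  rw [this] at hb
  exact Bool.noConfusion hb

theorem rep_injective : Function.Injective rep := by
  haveI := CfsgLib.Fi22P.simple
  rw [← MonoidHom.ker_eq_bot_iff]
  refine (Subgroup.Normal.eq_bot_or_eq_top (MonoidHom.normal_ker rep)).resolve_right fun h => ?_
  refine gm_zero_ne ?_
  have e : rep (PresentedGroup.of Cfsg.Spor.Fi22.Gen.a) = 1 := by
    rw [← MonoidHom.mem_ker, h]; exact Subgroup.mem_top _
  rw [rep, PresentedGroup.toGroup.of] at e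
  exact congrArg Units.val e

end CfsgLib.FiRep
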